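/-
Real gradings of the adjoint module by linear functions on the roots, and their stabilisers.
-/
import Cfsg.Agent.Chev.Levi
import Cfsg.Agent.Chev.Struct
import Mathlib.Data.Real.Basic

set_option autoImplicit false

namespace CfsgLib.BorelTits

open Cfsg.Lie CfsgLib.Chev Matrix
open scoped MatrixGroups

variable {D : ChevalleyDatum}

/-- The linear functions on the roots. -/
def lin (T : Tab D) : Submodule ℝ (Fin D.nroots → ℝ) :=
  Submodule.span ℝ (insert (fun s => (T.ht s.val : ℝ))
    (Set.range fun (k : Fin D.rank) (s : Fin D.nroots) => (T.cart k.val s.val : ℝ)))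

/-- A function on the roots as a function on the basis. -/
def fe (f : Fin D.nroots → ℝ) : D.Idx → ℝ := Sum.elim 0 f

/-- A matrix shifts the gradings by at least `m`. -/
def Shift {F : Type*} [Field F] (a b : D.Idx → ℝ) (m : ℝ) (M : Matrix D.Idx D.Idx F) : Prop :=
  ∀ x y, M x y ≠ 0 → m ≤ a x - b y

/-- A matrix is unitriangular for a real grading. -/
def Strict {F : Type*} [Field F] (a : D.Idx → ℝ) (M : Matrix D.Idx D.Idx F) : Prop :=
  ∀ x y, a x ≤ a y → M x y = (1 : Matrix D.Idx D.Idx F) x y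

variable {F : Type*} [Field F]

theorem Shift.mul {a b c : D.Idx → ℝ} {m m' : ℝ} {M N : Matrix D.Idx D.Idx F}
    (hM : Shift a b m M) (hN : Shift b c m' N) : Shift a c (m + m') (M * N) := by
  intro x y h
  rw [Matrix.mul_apply] at h
  obtain ⟨z, -, hz⟩ := Finset.exists_ne_zero_of_sum_ne_zero h
  have h1 := hM x z (left_ne_zero_of_mul hz)
  have h2 := hN z y (right_ne_zero_of_mul hz)
  linarith

theorem shift_one (a : D.Idx → ℝ) : Shift a a 0 (1 : Matrix D.Idx D.Idx F) := fun x y h => by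
  by_cases e : x = y
  · simp [e]
  · exact absurd (Matrix.one_apply_ne e) h

theorem Shift.mul₀ {a b c : D.Idx → ℝ} {M N : Matrix D.Idx D.Idx F}
    (hM : Shift a b 0 M) (hN : Shift b c 0 N) : Shift a c 0 (M * N) := by
  simpa using hM.mul hN

theorem Strict.shift {a : D.Idx → ℝ} {M : Matrix D.Idx D.Idx F} (h : Strict a M) :
    Shift a a 0 M := fun x y hne => by
  by_contra hlt
  have hle : a x ≤ a y := by linarith [not_le.1 hlt]
  rw [h x y hle] at hne
  exact hlt (shift_one a x y hne)

theorem Strict.mul {a : D.Idx → ℝ} {A B : Matrix D.Idx D.Idx F} (hA : Strict a A)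
    (hB : Strict a B) : Strict a (A * B) := by
  classical
  intro x y h
  rw [Matrix.mul_apply, Finset.sum_eq_single x]
  · rw [hA x x le_rfl, hB x y h, Matrix.one_apply_eq, one_mul]
  · intro z _ hz
    by_cases hxz : a x ≤ a z
    · rw [hA x z hxz, Matrix.one_apply_ne (Ne.symm hz), zero_mul]
    · have hlt := not_le.1 hxz
      have hne : z ≠ y := fun e => by rw [e] at hlt; exact absurd h (not_le.2 hlt)
      rw [hB z y (le_trans hlt.le h), Matrix.one_apply_ne hne, mul_zero]
  · exact fun hx => absurd (Finset.mem_univ x) hx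

/-- The matrices preserving a filtration, as a group. -/
def presGrp (F : Type*) [Field F] (a : D.Idx → ℝ) : Subgroup (GL D.Idx F) where
  carrier := {g | Shift a a 0 (g : Matrix D.Idx D.Idx F) ∧
    Shift a a 0 ((g⁻¹ : GL D.Idx F) : Matrix D.Idx D.Idx F)}
  one_mem' := ⟨by simpa using shift_one (F := F) a, by simpa using shift_one (F := F) a⟩
  mul_mem' := fun {g h} hg hh => by
    refine ⟨?_, ?_⟩
    · rw [Units.val_mul]; exact hg.1.mul₀ hh.1
    · rw [_root_.mul_inv_rev, Units.val_mul]; exact hh.2.mul₀ hg.2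
  inv_mem' := fun {g} hg => ⟨hg.2, by rw [inv_inv]; exact hg.1⟩

/-- The unitriangular matrices of a filtration, as a group. -/
def strictGrp (F : Type*) [Field F] (a : D.Idx → ℝ) : Subgroup (GL D.Idx F) where
  carrier := {g | Strict a (g : Matrix D.Idx D.Idx F) ∧
    Strict a ((g⁻¹ : GL D.Idx F) : Matrix D.Idx D.Idx F)}
  one_mem' := ⟨fun _ _ _ => by simp, fun _ _ _ => by simp⟩
  mul_mem' := fun {g h} hg hh => by
    refine ⟨?_, ?_⟩
    · rw [Units.val_mul]; exact hg.1.mul hh.1
    · rw [_root_.mul_inv_rev, Units.val_mul]; exact hh.2.mul hg.2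
  inv_mem' := fun {g} hg => ⟨hg.2, by rw [inv_inv]; exact hg.1⟩

variable {T : Tab D}

/-- The properties of a linear function. -/
theorem lin_spec (G : T.Good) {f : Fin D.nroots → ℝ} (hf : f ∈ lin T) :
    (∀ (i : Fin D.rank) (s : Fin D.nroots),
      f (G.full.refl i s) = f s - (T.cart i.val s.val : ℝ) * f (G.full.simp' i)) ∧
    (∀ s, f (Tab.negF s) = - f s) ∧
    ∀ (k : ℕ) (r : Fin D.nroots) (x y : D.Idx), 1 ≤ k → T.A k r.val x y ≠ 0 →
      fe f x = k * f r + fe f y := by
  have sim : ∀ i : Fin D.rank, T.ht (D.simple i) = 1 := fun i => (G.full.node_spec i.isLt).2.1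
  induction hf using Submodule.span_induction with
  | mem f hf =>
    rcases hf with rfl | ⟨j, rfl⟩
    · refine ⟨fun i s => ?_, fun s => ?_, fun k r x y hk h => ?_⟩
      · show (T.ht (T.reflT i s) : ℝ) = _
        rw [(G.full.reflT_spec i.isLt s.isLt).2.2.2.1]
        show _ = _ - _ * ((T.ht (D.simple i) : ℤ) : ℝ)
        rw [sim i]; push_cast; ring
      · have := G.full.cert.isAdd_gr.neg s s.isLt
        rw [T.gr_root (Tab.Cert.negR_lt s.isLt), T.gr_root s.isLt] at this
        show ((T.ht (Tab.negR D s) : ℤ) : ℝ) = _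
        rw [this]; push_cast; rfl
      · have e := G.full.cert.A_hom G.full.cert.isAdd_gr hk r.isLt x y h
        rw [T.gr_root r.isLt] at e
        have conv : ∀ z : D.Idx, fe (fun s : Fin D.nroots => (T.ht s.val : ℝ)) z =
            ((T.gr (code z) : ℤ) : ℝ) := by
          rintro (l | l)
          · rw [code_inl, T.gr_h (Nat.le_add_right _ _)]; simp [fe]
          · rw [code_inr, T.gr_root l.isLt]; simp [fe]
        rw [conv, conv, e]; push_cast; ring
    · refine ⟨fun i s => ?_, fun s => ?_, fun k r x y hk h => ?_⟩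
      · show (T.cart j (T.reflT i s) : ℝ) = _
        rw [((G.full.reflT_spec i.isLt s.isLt).2.2.2.2.1 j j.isLt).1]
        show _ = _ - _ * ((T.cart j (D.simple i) : ℤ) : ℝ)
        push_cast; ring
      · have := (G.full.cert.isAdd_wt j.isLt).neg s s.isLt
        rw [T.wt_root (Tab.Cert.negR_lt s.isLt), T.wt_root s.isLt] at this
        show ((T.cart j (Tab.negR D s) : ℤ) : ℝ) = _
        rw [this]; push_cast; rfl
      · have e := G.full.cert.A_hom (G.full.cert.isAdd_wt j.isLt) hk r.isLt x y h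
        rw [T.wt_root r.isLt] at e
        have conv : ∀ z : D.Idx, fe (fun s : Fin D.nroots => (T.cart j.val s.val : ℝ)) z =
            ((T.wt j.val (code z) : ℤ) : ℝ) := by
          rintro (l | l)
          · rw [code_inl, T.wt_h (Nat.le_add_right _ _)]; simp [fe]
          · rw [code_inr, T.wt_root l.isLt]; simp [fe]
        rw [conv, conv, e]; push_cast; ring
  | zero =>
    exact ⟨by simp, by simp, fun k r x y _ _ => by rcases x with l | l <;> rcases y with m | m <;> simp [fe]⟩
  | add f g _ _ hf hg =>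
    refine ⟨fun i s => ?_, fun s => ?_, fun k r x y hk h => ?_⟩
    · simp only [Pi.add_apply, hf.1, hg.1]; ring
    · simp only [Pi.add_apply, hf.2.1, hg.2.1]; ring
    · have e1 := hf.2.2 k r x y hk h
      have e2 := hg.2.2 k r x y hk h
      have add : ∀ z : D.Idx, fe (f + g) z = fe f z + fe g z := by rintro (l | l) <;> simp [fe]
      rw [add, add, e1, e2, Pi.add_apply]; ring
  | smul c f _ hf =>
    refine ⟨fun i s => ?_, fun s => ?_, fun k r x y hk h => ?_⟩
    · simp only [Pi.smul_apply, smul_eq_mul, hf.1]; ring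
    · simp only [Pi.smul_apply, smul_eq_mul, hf.2.1]; ring
    · have e1 := hf.2.2 k r x y hk h
      have sm : ∀ z : D.Idx, fe (c • f) z = c * fe f z := by rintro (l | l) <;> simp [fe]
      rw [sm, sm, e1, Pi.smul_apply, smul_eq_mul]; ring

variable (G : T.Good)

include G

theorem lin_refl {f : Fin D.nroots → ℝ} (hf : f ∈ lin T) (i : Fin D.rank) :
    (fun s => f (G.full.refl i s)) ∈ lin T := by
  have e : (fun s => f (G.full.refl i s)) =
      f - f (G.full.simp' i) • fun s : Fin D.nroots => (T.cart i.val s.val : ℝ) := by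
    funext s
    rw [(lin_spec G hf).1 i s, Pi.sub_apply, Pi.smul_apply, smul_eq_mul, mul_comm]
  rw [e]
  exact sub_mem hf (Submodule.smul_mem _ _ (Submodule.subset_span (Set.mem_insert_of_mem _ ⟨i, rfl⟩)))

theorem lin_pw : ∀ (L : List (Fin D.rank)) {f : Fin D.nroots → ℝ}, f ∈ lin T →
    (fun s => f (G.full.pw L s)) ∈ lin T := by
  intro L
  induction L with
  | nil => intro f hf; simpa [Tab.Full.pw] using hf
  | cons i L ih =>
    intro f hf
    have := ih (lin_refl G hf i)
    simpa [G.pw_cons] using this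

theorem lin_perm {σ : Equiv.Perm (Fin D.nroots)} {n : GL D.Idx F}
    (hn : n ∈ D.monomialSubgroup F) (hσ : G.full.RootAct n σ) {f : Fin D.nroots → ℝ}
    (hf : f ∈ lin T) : (fun s => f (σ s)) ∈ lin T := by
  obtain ⟨L, hL⟩ := G.exists_rootAct hn
  rw [G.rootAct_unique hσ hL]
  exact lin_pw G L hf

/-- Non-negative on the fundamental roots. -/
def Dom (f : Fin D.nroots → ℝ) : Prop := ∀ i : Fin D.rank, 0 ≤ f (G.full.simp' i)

/-- The fundamental roots where the function vanishes. -/
def zeroSet (f : Fin D.nroots → ℝ) : Set ℕ :=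
  {i | ∃ h : i < D.rank, f (G.full.simp' ⟨i, h⟩) = 0}

theorem dom_pos {f : Fin D.nroots → ℝ} (hf : f ∈ lin T) (hd : Dom G f) :
    ∀ (s : Fin D.nroots), Tab.IsPos D s.val →
      (T.InJ (zeroSet G f) s.val → f s = 0) ∧ (¬ T.InJ (zeroSet G f) s.val → 0 < f s) := by
  suffices key : ∀ (n : ℕ) (s : Fin D.nroots), Tab.IsPos D s.val → (T.ht s.val).toNat = n →
      0 ≤ f s ∧ (f s = 0 ↔ T.InJ (zeroSet G f) s.val) by
    intro s hs
    obtain ⟨h1, h2⟩ := key _ s hs rfl
    exact ⟨h2.2, fun h => lt_of_le_of_ne h1 fun e => h (h2.1 e.symm)⟩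
  intro n
  induction n using Nat.strong_induction_on with
  | _ n ih =>
    intro s hpos hn
    obtain ⟨-, -, -, -, hsum⟩ := G.full.cert.root_spec hpos.1
    obtain ⟨l, hl1, hl2⟩ : ∃ l : Fin D.rank, 0 < T.cor s l.val ∧ 0 < T.cart l.val s := by
      by_contra hc
      simp only [not_exists, not_and, not_lt] at hc
      have : ((List.range D.rank).map fun i => T.cor s i * T.cart i s).sum ≤ 0 := by
        refine (List.sum_le_card_nsmul _ 0 fun a ha => ?_).trans (by simp)
        obtain ⟨i, hi, rfl⟩ := List.mem_map.mp ha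
        rw [List.mem_range] at hi
        rcases ((G.pos_iff_cor hpos.1).mp hpos ⟨i, hi⟩).lt_or_eq with h | h
        · exact mul_nonpos_of_nonneg_of_nonpos h.le (hc ⟨i, hi⟩ h)
        · simp only at h
          rw [← h, zero_mul]
      omega
    by_cases hs : s = G.full.simp' l
    · subst hs
      refine ⟨hd l, ?_⟩
      rw [show ((G.full.simp' l : Fin D.nroots) : ℕ) = D.simple l from rfl, G.inJ_simple]
      exact ⟨fun h => ⟨l.isLt, h⟩, fun ⟨_, h⟩ => h⟩
    obtain ⟨hlt, hinv, -, hht, hlin, -⟩ := G.full.reflT_spec l.isLt hpos.1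
    obtain ⟨hpos', -⟩ := G.refl_pos l hpos hs
    have h1 := (G.pos_iff_ht hlt).mp hpos'
    obtain ⟨ih1, ih2⟩ := ih (T.ht (T.reflT l s)).toNat (by omega) (G.full.refl l s) hpos' rfl
    have e := (lin_spec G hf).1 l s
    have hc : (0 : ℝ) < (T.cart l.val s.val : ℝ) := Int.cast_pos.2 hl2
    have hprod : 0 ≤ (T.cart l.val s.val : ℝ) * f (G.full.simp' l) := mul_nonneg hc.le (hd l)
    refine ⟨by linarith, fun h0 => ?_, fun hJ => ?_⟩
    · have hf0 : f (G.full.refl l s) = 0 := by linarith
      have hl0 : f (G.full.simp' l) = 0 := by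
        have : (T.cart l.val s.val : ℝ) * f (G.full.simp' l) = 0 := by linarith
        exact (mul_eq_zero.1 this).resolve_left hc.ne'
      have := G.inJ_reflT (l := l) (J := zeroSet G f) ⟨l.isLt, hl0⟩ (ih2.1 hf0)
      change T.InJ (zeroSet G f) (T.reflT l (T.reflT l s)) at this
      rwa [hinv] at this
    · have hlJ : l.val ∈ zeroSet G f := by
        by_contra h
        rw [hJ.2 l h] at hl1
        exact lt_irrefl _ hl1
      obtain ⟨_, hl0⟩ := hlJ
      have hl0' : f (G.full.simp' l) = 0 := hl0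
      have := ih2.2 (G.inJ_reflT (l := l) (J := zeroSet G f) ⟨l.isLt, hl0'⟩ hJ)
      rw [hl0', mul_zero] at e
      linarith

theorem inJ_zero {f : Fin D.nroots → ℝ} (hf : f ∈ lin T) (hd : Dom G f) {s : Fin D.nroots}
    (h : T.InJ (zeroSet G f) s.val) : f s = 0 := by
  by_cases hp : Tab.IsPos D s.val
  · exact (dom_pos G hf hd s hp).1 h
  · have := (dom_pos G hf hd _ (G.pos_negF.mpr hp)).1 (G.inJ_negR h)
    rw [(lin_spec G hf).2.1] at this
    linarith

theorem dom_nonneg {f : Fin D.nroots → ℝ} (hf : f ∈ lin T) (hd : Dom G f) {s : Fin D.nroots}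
    (hp : Tab.IsPos D s.val) : 0 ≤ f s := by
  by_cases h : T.InJ (zeroSet G f) s.val
  · exact ((dom_pos G hf hd s hp).1 h).ge
  · exact ((dom_pos G hf hd s hp).2 h).le

theorem eq_zero_of_simple {f : Fin D.nroots → ℝ} (hf : f ∈ lin T)
    (h : ∀ i : Fin D.rank, f (G.full.simp' i) = 0) : f = 0 := by
  funext s
  exact inJ_zero G hf (fun i => (h i).ge) ⟨s.isLt, fun i hi => absurd ⟨i.isLt, h i⟩ hi⟩

theorem x_entry {f : Fin D.nroots → ℝ} (hf : f ∈ lin T) (r : Fin D.nroots) (t : F) (x y : D.Idx)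
    (h : ((G.full.x r t : GL D.Idx F) : Matrix D.Idx D.Idx F) x y ≠ 0) :
    x = y ∨ ∃ k : ℕ, 1 ≤ k ∧ fe f x = k * f r + fe f y := by
  by_cases hxy : x = y
  · exact Or.inl hxy
  right
  by_contra hne
  simp only [not_exists, not_and] at hne
  refine h ?_
  rw [G.full.coe_x r.isLt]
  have hz : ∀ m, 1 ≤ m → m ≤ 3 → T.P m r x y = 0 := by
    intro m h1 h3
    by_contra hc
    simp only [Tab.P, show m ≠ 0 by omega, h3, if_false, if_true] at hc
    exact hne m h1 ((lin_spec G hf).2.2 m r x y h1 hc)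
  simp [Tab.X, Finset.sum_range_succ, Matrix.add_apply, T.P_zero, hz 1 le_rfl (by omega),
    hz 2 (by omega) (by omega), hz 3 (by omega) le_rfl, hxy]

theorem x_mem_pres {f : Fin D.nroots → ℝ} (hf : f ∈ lin T) {r : Fin D.nroots} (hr : 0 ≤ f r)
    (t : F) : G.full.x r t ∈ presGrp F (fe f) := by
  have key : ∀ t : F, Shift (fe f) (fe f) 0
      ((G.full.x r t : GL D.Idx F) : Matrix D.Idx D.Idx F) := fun t x y h => by
    rcases x_entry G hf r t x y h with rfl | ⟨k, -, e⟩
    · simp
    · have : (0 : ℝ) ≤ k * f r := mul_nonneg (Nat.cast_nonneg k) hr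
      linarith
  exact ⟨key t, by rw [G.full.x_inv]; exact key _⟩

theorem x_mem_strict {f : Fin D.nroots → ℝ} (hf : f ∈ lin T) {r : Fin D.nroots} (hr : 0 < f r)
    (t : F) : G.full.x r t ∈ strictGrp F (fe f) := by
  have key : ∀ t : F, Strict (fe f) ((G.full.x r t : GL D.Idx F) : Matrix D.Idx D.Idx F) := by
    intro t x y hle
    rw [G.full.coe_x r.isLt]
    have hz : ∀ m, 1 ≤ m → m ≤ 3 → T.P m r x y = 0 := by
      intro m h1 h3
      by_contra hne
      simp only [Tab.P, show m ≠ 0 by omega, h3, if_false, if_true] at hne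
      have e := (lin_spec G hf).2.2 m r x y h1 hne
      have : (0 : ℝ) < m * f r := mul_pos (by exact_mod_cast h1) hr
      linarith
    simp [Tab.X, Finset.sum_range_succ, Matrix.add_apply, T.P_zero, hz 1 le_rfl (by omega),
      hz 2 (by omega) (by omega), hz 3 (by omega) le_rfl, Matrix.one_apply]
  exact ⟨key t, by rw [G.full.x_inv]; exact key _⟩

theorem diag_le_pres (f : Fin D.nroots → ℝ) : D.diagonalSubgroup F ≤ presGrp F (fe f) := by
  have hd : ∀ h ∈ D.diagonalSubgroup F,
      Shift (fe f) (fe f) 0 ((h : GL D.Idx F) : Matrix D.Idx D.Idx F) := by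
    intro h hh x y hne
    rw [G.full.diagonal_eq_range] at hh
    obtain ⟨c, rfl⟩ := hh
    rw [T.coe_hT] at hne
    by_cases e : x = y
    · simp [e]
    · exact absurd (Matrix.diagonal_apply_ne _ e) hne
  exact fun h hh => ⟨hd h hh, hd _ (inv_mem hh)⟩

theorem borel_le_pres {f : Fin D.nroots → ℝ} (hf : f ∈ lin T) (hd : Dom G f) :
    D.borelSubgroup F ≤ presGrp F (fe f) := by
  refine sup_le ?_ (diag_le_pres G f)
  rw [G.posUnipotent_eq]
  refine (Subgroup.closure_le _).mpr ?_
  rintro g ⟨r, hr, t, rfl⟩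
  exact x_mem_pres G hf (r := ⟨r, hr.1⟩) (dom_nonneg G hf hd (s := ⟨r, hr.1⟩) hr) t

/-! ### Monomial matrices -/

theorem nw_root_entry : ∀ (L : List (Fin D.rank)) (s : Fin D.nroots) (x : D.Idx),
    (((G.full.nw F L : GL D.Idx F) : Matrix D.Idx D.Idx F) x (Sum.inr s) ≠ 0 ↔
      x = Sum.inr (G.full.pw L s)) := by
  intro L
  induction L with
  | nil =>
    intro s x
    by_cases h : x = Sum.inr s <;> simp [Tab.Full.nw, Tab.Full.pw, h]
  | cons i L ih =>
    intro s x
    rw [G.nw_cons, Units.val_mul, Matrix.mul_apply, Finset.sum_eq_single (Sum.inr (G.full.pw L s))]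
    · rw [mul_ne_zero_iff, and_iff_left ((ih s _).2 rfl)]
      have e : ((G.full.ns F i : GL D.Idx F) : Matrix D.Idx D.Idx F) = T.NX i.val (1 : Fˣ) := by
        rw [Tab.Full.ns, ← G.full.coe_nr_simple i.isLt, Units.val_one]
      rw [e, G.full.NX_root i.isLt]
      have hs : ((T.sgn i (G.full.pw L s) : ℤ) : F) ≠ 0 := by
        rcases (G.full.reflT_spec i.isLt (G.full.pw L s).isLt).2.2.2.2.2.2.1 with h | h <;>
          simp [h]
      constructor
      · intro h
        refine code_injective ?_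
        rw [code_inr, G.pw_cons]
        by_contra hne
        exact h (if_neg hne)
      · rintro rfl
        rw [code_inr, G.pw_cons, if_pos (by rfl)]
        simpa using hs
    · intro z _ hz
      rw [show ((G.full.nw F L : GL D.Idx F) : Matrix D.Idx D.Idx F) z (Sum.inr s) = 0 from
        not_not.1 fun h => hz ((ih s z).1 h), mul_zero]
    · simp

theorem mono_nw (L : List (Fin D.rank)) :
    Tab.Mono ((G.full.nw F L : GL D.Idx F) : Matrix D.Idx D.Idx F) := by
  induction L with
  | nil =>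
    constructor
    · intro s; exact ⟨s, fun x hx => by simp [Tab.Full.nw, hx]⟩
    · intro j s; simp [Tab.Full.nw]
  | cons i L ih => rw [G.nw_cons, Units.val_mul]; exact (G.mono_x_simple i).mul ih

theorem monomial_root_entry {n : GL D.Idx F} (hn : n ∈ D.monomialSubgroup F)
    {σ : Equiv.Perm (Fin D.nroots)} (hσ : G.full.RootAct n σ) :
    (∀ (s : Fin D.nroots) (x : D.Idx),
      (n : Matrix D.Idx D.Idx F) x (Sum.inr s) ≠ 0 ↔ x = Sum.inr (σ s)) ∧
    ∀ (j : Fin D.rank) (s : Fin D.nroots), (n : Matrix D.Idx D.Idx F) (Sum.inr s) (Sum.inl j) = 0 := by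
  obtain ⟨c, L, rfl⟩ := G.exists_word hn
  have e := G.rootAct_unique hσ (G.rootAct_mul (G.rootAct_hT c) (G.rootAct_nw L))
  rw [one_mul] at e
  subst e
  constructor
  · intro s x
    rw [Units.val_mul, T.coe_hT, Matrix.diagonal_mul, mul_ne_zero_iff, nw_root_entry G L s x]
    refine and_iff_right ?_
    rcases x with j | r <;> simp
  · intro j s
    rw [Units.val_mul, T.coe_hT, Matrix.diagonal_mul, (mono_nw G L).2 j s, mul_zero]

theorem monomial_shift {n : GL D.Idx F} (hn : n ∈ D.monomialSubgroup F)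
    {σ : Equiv.Perm (Fin D.nroots)} (hσ : G.full.RootAct n σ) {f' f : Fin D.nroots → ℝ}
    (h : ∀ s, f' (σ s) = f s) : Shift (fe f') (fe f) 0 (n : Matrix D.Idx D.Idx F) := by
  obtain ⟨h1, h2⟩ := monomial_root_entry G hn hσ
  intro x y hne
  rcases y with j | s
  · rcases x with k | r
    · simp [fe]
    · exact absurd (h2 j r) hne
  · rw [(h1 s x).1 hne]
    simp [fe, h s]

theorem rootAct_inv {n : GL D.Idx F} (hn : n ∈ D.monomialSubgroup F)
    {σ : Equiv.Perm (Fin D.nroots)} (hσ : G.full.RootAct n σ) : G.full.RootAct n⁻¹ σ⁻¹ := by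
  obtain ⟨L, hL⟩ := G.exists_rootAct (inv_mem hn)
  have e := G.rootAct_unique (g := (1 : GL D.Idx F)) G.rootAct_one
    (by simpa using G.rootAct_mul hσ hL)
  rw [show σ⁻¹ = G.full.pw L from (eq_inv_of_mul_eq_one_right e.symm).symm]
  exact hL

/-- A monomial element carrying a dominant function to a dominant function fixes it and lies in
its parabolic subgroup. -/
theorem dom_unique : ∀ (m : ℕ) (L : List (Fin D.rank)), (Tab.invSet (G.full.pw L)).card = m →
    ∀ {f f' : Fin D.nroots → ℝ}, f ∈ lin T → f' ∈ lin T → Dom G f → Dom G f' →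
      (∀ s, f (G.full.pw L s) = f' s) →
      f' = f ∧ G.full.nw F L ∈ D.parabolicSubgroup F (zeroSet G f) := by
  intro m
  induction m using Nat.strong_induction_on with
  | _ m ih =>
    intro L hm f f' hf hf' hd hd' heq
    have hneg : ∀ s, G.full.pw L (Tab.negF s) = Tab.negF (G.full.pw L s) := by
      obtain ⟨c, hc⟩ := G.rootAct_nw (F := F) L
      exact fun s => (hc s).1
    by_cases hall : ∀ i, Tab.IsPos D (G.full.pw L (G.full.simp' i)).val
    · -- all positive roots stay positive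
      have hpos : ∀ s, Tab.IsPos D s.val → Tab.IsPos D (G.full.pw L s).val := by
        intro s hs
        by_contra hn
        obtain ⟨c, hc⟩ := G.rootAct_nw (F := F) L
        obtain ⟨j, hj⟩ := G.exists_cor_ne_zero (F := ℚ) (G.full.pw L s).isLt
        have hle := (G.cor_sign (G.full.pw L s).isLt j.isLt).2 fun h => hn ⟨Fin.isLt _, h⟩
        have hge : 0 ≤ T.cor (G.full.pw L s) j := by
          rw [(hc s).2.2.1 j]
          exact Finset.sum_nonneg fun k _ => mul_nonneg ((G.cor_sign s.isLt k.isLt).1 hs.2)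
            ((G.cor_sign (Fin.isLt _) j.isLt).1 (hall k).2)
        exact hj (by rw [le_antisymm hle hge]; simp)
      obtain ⟨c, hc⟩ := G.nw_mem_torus (F := F) _ L rfl hpos
      have he : G.full.pw L = 1 := by
        have := G.pw_eq_of_nw (L' := []) (F := F) (c := c) (L := L) (by rw [hc]; simp [Tab.Full.nw])
        simpa [Tab.Full.pw] using this
      refine ⟨funext fun s => by rw [← heq s, he]; rfl, ?_⟩
      rw [hc]
      exact Subgroup.mem_sup_left (G.borel_hT c)
    · simp only [not_forall] at hall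
      obtain ⟨i, hi⟩ := hall
      have hi0 : f' (G.full.simp' i) = 0 := by
        refine le_antisymm ?_ (hd' i)
        rw [← heq, ← neg_neg (f _), ← (lin_spec G hf).2.1]
        exact neg_nonpos.2 (dom_nonneg G hf hd (G.pos_negF.mpr hi))
      have hLi : G.full.pw (L ++ [i]) = G.full.pw L * G.full.refl i := by
        rw [G.pw_append, G.pw_singleton]
      have hp : Tab.IsPos D (G.full.pw (L ++ [i]) (G.full.simp' i)).val := by
        rw [hLi, Equiv.Perm.mul_apply, G.refl_simp, hneg, G.pos_negF]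
        exact hi
      have hlt := G.inv_mul_refl hp
      have hback : G.full.pw (L ++ [i] ++ [i]) = G.full.pw L := by
        rw [G.pw_append, hLi, G.pw_singleton, mul_assoc, G.refl_mul_self, mul_one]
      rw [hback, hm] at hlt
      obtain ⟨e, hmem⟩ := ih _ hlt (L ++ [i]) rfl hf hf' hd hd' fun s => by
        rw [hLi, Equiv.Perm.mul_apply, heq, (lin_spec G hf').1 i s, hi0, mul_zero, sub_zero]
      refine ⟨e, ?_⟩
      have hiJ : i.val ∈ zeroSet G f := ⟨i.isLt, by rw [← e]; exact hi0⟩
      rw [G.nw_append, show G.full.nw F [i] = G.full.ns F i by simp [Tab.Full.nw]] at hmem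
      simpa using mul_mem hmem (inv_mem (G.ns_mem_parabolic (F := F) hiJ))

theorem dom_unique' {n : GL D.Idx F} (hn : n ∈ D.monomialSubgroup F)
    {σ : Equiv.Perm (Fin D.nroots)} (hσ : G.full.RootAct n σ) {f f' : Fin D.nroots → ℝ}
    (hf : f ∈ lin T) (hf' : f' ∈ lin T) (hd : Dom G f) (hd' : Dom G f')
    (h : ∀ s, f (σ s) = f' s) : f' = f ∧ n ∈ D.parabolicSubgroup F (zeroSet G f) := by
  obtain ⟨c, L, rfl⟩ := G.exists_word hn
  have e := G.rootAct_unique hσ (G.rootAct_mul (G.rootAct_hT c) (G.rootAct_nw L))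
  rw [one_mul] at e
  subst e
  obtain ⟨e1, e2⟩ := dom_unique G (F := F) _ L rfl hf hf' hd hd' h
  exact ⟨e1, mul_mem (Subgroup.mem_sup_left (G.borel_hT c)) e2⟩

theorem bruhat {g : GL D.Idx F} (hg : g ∈ D.group F) :
    ∃ b ∈ D.borelSubgroup F, ∃ n ∈ D.monomialSubgroup F, ∃ L, G.full.RootAct n (G.full.pw L) ∧
      ∃ c ∈ D.borelSubgroup F, g = b * n * c := by
  obtain ⟨b, hb, n, hn, L, hL, u, hu, rfl⟩ := G.canonical_exists hg
  refine ⟨b, hb, n, hn, L, hL, u, G.pos_le_borel ?_, rfl⟩
  rw [G.posUnipotent_eq]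
  exact G.US_mono (fun s hs => by obtain ⟨_, h, -⟩ := hs; exact h) hu

/-- The stabiliser of the filtration of a dominant function lies in its parabolic subgroup. -/
theorem mem_parabolic_of_shift {f : Fin D.nroots → ℝ} (hf : f ∈ lin T) (hd : Dom G f)
    {p : GL D.Idx F} (hp : p ∈ D.group F)
    (h : Shift (fe f) (fe f) 0 (p : Matrix D.Idx D.Idx F)) :
    p ∈ D.parabolicSubgroup F (zeroSet G f) := by
  obtain ⟨b, hb, n, hn, L, hL, c, hc, rfl⟩ := bruhat G hp
  have h' : Shift (fe f) (fe f) 0 (n : Matrix D.Idx D.Idx F) := by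
    have e : n = b⁻¹ * (b * n * c) * c⁻¹ := by group
    rw [e, Units.val_mul, Units.val_mul (b⁻¹)]
    exact (((borel_le_pres G hf hd hb).2).mul₀ h).mul₀ (borel_le_pres G hf hd hc).2
  have hle : ∀ s, f s ≤ f (G.full.pw L s) := fun s => by
    have := h' (Sum.inr (G.full.pw L s)) (Sum.inr s) (((monomial_root_entry G hn hL).1 s _).2 rfl)
    simp only [fe, Sum.elim_inr] at this
    linarith
  have hs : ∀ s, f (G.full.pw L s) = f s := by
    have hsum : ∑ s, f (G.full.pw L s) = ∑ s, f s := Equiv.sum_comp _ _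
    intro s
    exact ((Finset.sum_eq_sum_iff_of_le fun s _ => hle s).1 hsum.symm s (Finset.mem_univ s)).symm
  refine mul_mem (mul_mem (Subgroup.mem_sup_left hb) ?_) (Subgroup.mem_sup_left hc)
  exact (dom_unique' G hn hL hf hf hd hd hs).2

/-- An element of the group unitriangular for a dominant function lies in its unipotent radical. -/
theorem mem_rad_of_strict {f : Fin D.nroots → ℝ} (hf : f ∈ lin T) (hd : Dom G f)
    {p : GL D.Idx F} (hp : p ∈ D.group F) (h : Strict (fe f) (p : Matrix D.Idx D.Idx F)) :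
    p ∈ D.unipotentRadical F (zeroSet G f) := by
  have hmem := mem_parabolic_of_shift G hf hd hp h.shift
  have hln : D.leviSubgroup F (zeroSet G f) ≤ Subgroup.normalizer
      (D.unipotentRadical F (zeroSet G f) : Set (GL D.Idx F)) :=
    le_trans (le_sup_right.trans (G.rad_sup_levi _).le) (G.rad_normal _)
  rw [← G.rad_sup_levi, ← SetLike.mem_coe,
    Subgroup.coe_mul_of_right_le_normalizer_left _ _ hln] at hmem
  obtain ⟨v, hv, l, hl, rfl⟩ := hmem
  have hvs : v ∈ strictGrp F (fe f) := by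
    rw [SetLike.mem_coe, G.rad_eq] at hv
    refine (Subgroup.closure_le _).mpr ?_ hv
    rintro g ⟨r, hr, t, rfl⟩
    exact x_mem_strict G hf (r := ⟨r, hr.1.1⟩) ((dom_pos G hf hd ⟨r, hr.1.1⟩ hr.1).2 hr.2) t
  have hl0 : ∀ x y, fe f x ≠ fe f y → (l : Matrix D.Idx D.Idx F) x y = 0 := by
    have hfn : -f ∈ lin T := neg_mem hf
    have hfe : ∀ z, fe (-f) z = - fe f z := by rintro (j | j) <;> simp [fe]
    have h1 : D.leviSubgroup F (zeroSet G f) ≤ presGrp F (fe f) ⊓ presGrp F (fe (-f)) :=
      G.levi_le_iff (le_inf (diag_le_pres G f) (diag_le_pres G (-f))) fun r hr t =>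
        ⟨x_mem_pres G hf (r := ⟨r, hr.1⟩) (inJ_zero G hf hd (s := ⟨r, hr.1⟩) hr).ge t,
          x_mem_pres G hfn (r := ⟨r, hr.1⟩) (by simp [inJ_zero G hf hd (s := ⟨r, hr.1⟩) hr]) t⟩
    intro x y hne
    by_contra hc
    obtain ⟨⟨ha, -⟩, ⟨hb, -⟩⟩ := h1 hl
    have e1 := ha x y hc
    have e2 := hb x y hc
    rw [hfe, hfe] at e2
    exact hne (le_antisymm (by linarith) (by linarith))
  have hls : Strict (fe f) (l : Matrix D.Idx D.Idx F) := by
    have e : l = v⁻¹ * (v * l) := by group
    rw [e, Units.val_mul]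
    exact hvs.2.mul h
  have he : l = 1 := by
    refine Units.ext ?_
    ext x y
    by_cases hxy : fe f x = fe f y
    · simpa using hls x y hxy.le
    · rw [hl0 x y hxy, Units.val_one, Matrix.one_apply_ne fun e => hxy (by rw [e])]
  simpa [he] using hv

end CfsgLib.BorelTits
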